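import Cfsg.Agent.Lib.Spor.GLTwoAmalgam.SevenH.Part0

/-!
A collapsing case: the assembled checks.
-/

set_option autoImplicit false

namespace CfsgLib.Spor.GLTwoAmalgam.SevenH

open CfsgLib.Spor.TC

theorem steps_ok : cert.SStepsOK 0 140 :=
  steps0

def rcodes : List ℕ := [
  0x290000100002800001000116000010001170000100000b0000100000a000010000050000100000400001000114000010001150000100000300001000002000010000010000100000000001]

set_option maxRecDepth 100000 in
theorem rows_ok : cert.SRowsOK 140 1 0 1 :=
  Cert.SRowsOK.of_check _ (codes := rcodes) (by decide +kernel)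

end CfsgLib.Spor.GLTwoAmalgam.SevenH
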