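import Cfsg.Agent.Lib.Spor.TC.Signed

/-!
A collapsing case: tables found by a computer search.
-/

set_option autoImplicit false
set_option maxRecDepth 100000

namespace CfsgLib.Spor.GLTwoAmalgam.SevenH

open CfsgLib.Spor.TC

def edgeTbl : Tbl :=
  (.bin (.bin (.bin (.tip 0xd0000e50000c0000d70000b0000cb000010000bd0000100001b0000a000037000020000a8000090000470000300009700003000045000050000870000000000c0000700005e0000000006e000020000550000000005a000070000870000600007b0000000006d000050000250000000005b0000400001000003000044000010000300000200001700001000027000000000080000100000400000000014000000000060000000000200000000000) (.tip 0xb000000000050000500000e0000900000e0000200000e0000100000e0000400000e0000300000e0001300005e0001200005e0000900002e0000400003e)) (.bin (.tip 0x1c00016e000210001c5000190001360002300021e0002000019e00012000133000120000520001200024e0002400005200013000242000130002070001f00013e000040001ee000230001c500019000235000220001ca00021000226000200002150001f0002070001e0001fb000040001ed00013000196000130000940001a00013e000120001670001500012e0000300014e0001d0001950001c0001d5000120001c60001300004a0001b00013e)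 .none)) (.bin (.bin (.tip 0x1b00004a000030001ba0001a000094000190001a70001800019a0001700018600016000175000150001670001400015b0000300014d0000300012b0000a000046000130000a50000500013200008000057000080000fe000120000950000a000125000090000a9000090000280000900011e000110000280000a0001180000f000057000100000fe0000e00005e0000d00002e0000c00001e000010000be000100000570000f00010a0000e0000f6) .none) (.bin (.tip 0x1300012e0000a00009e0001900016e0002100017e0002200018e0002b00018e000180001850002a00018e0002700018e000220002b50002a000185000180002a500027000216000270002740002800027e0002600021e0000a00025e000210000aa000210002870002900021e000290000aa0002800029600027000285000260002770002500026b0000900025d0000900017b000170001950001600022b000160001270001d00017e00016000214) .none)))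

def nodeTbl : Tbl :=
  (.bin (.tip 0x1eb00004d0001c500012600003a00019700018a00017600016500015700014b00003d0000520000a50000a80000fa0000e60000d50000c70000bb00001d00002800003700007700006b00000d00000b000034000010000017000004000000) (.tip 0x22500018500028600027500026700025b00009d0001320001950002160002050001f7))

def rowTbl : Tbl :=
  (.tip 0x0)

/-- The relators. -/
def rels : List (List ℕ) := [
  [0, 0, 0],
  [2, 2, 2],
  [1, 3, 0, 2, 9],
  [8, 8, 8],
  [1, 9, 0, 8],
  [3, 9, 2, 8],
  [4, 4, 4, 4],
  [6, 6, 6, 6],
  [5, 5, 7, 7, 4, 4, 6, 6],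
  [4, 4, 0, 5, 5, 1],
  [6, 6, 0, 7, 7, 0],
  [4, 4, 2, 5, 5, 2],
  [6, 6, 2, 7, 7, 3],
  [6, 6, 8, 7, 7, 8],
  [4, 4, 8, 5, 5, 8],
  [6, 0, 7, 8],
  [6, 8, 7, 1],
  [2, 6, 2, 6, 2, 6],
  [4, 4, 6, 5, 5, 6],
  [7, 7, 3, 6, 6, 2],
  [6, 6, 4, 7, 7, 4],
  [4, 2, 5, 9],
  [4, 8, 5, 2],
  [0, 4, 0, 4, 0, 4],
  [11, 5, 7, 4],
  [13, 11, 7, 5, 6, 10, 7, 4, 6],
  [10, 10, 7, 7, 5, 5],
  [7, 4, 4, 7, 5, 5],
  [10, 10, 10, 10],
  [4, 4, 10, 5, 5, 10],
  [4, 4, 7, 4, 6, 5, 5, 7, 4, 6],
  [12, 5, 5]]

/-- The generators of the subgroup. -/
def subs : List (List ℕ) := [[0], [2], [6], [4, 4], [8]]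

/-- The certificate. -/
noncomputable def cert : Cert :=
  ⟨14, rels, subs, edgeTbl.get 44, nodeTbl.get 24, rowTbl.get 20⟩

end CfsgLib.Spor.GLTwoAmalgam.SevenH
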