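import Cfsg.Agent.Lib.Spor.GLTwoAmalgam.SevenH.Data

/-!
Checks of a part of the derivation.
-/

set_option autoImplicit false

namespace CfsgLib.Spor.GLTwoAmalgam.SevenH

open CfsgLib.Spor.TC

def scodes0 : List ℕ := [
  0x10000100003,
  0x10000200003,
  0x10000300003,
  0x1,
  0x8000020000400003,
  0x10000500003,
  0x1,
  0xa0000600006000080000e00005000010001500002,
  0x1,
  0x1,
  0xa0000200008000120001400005000010001800002,
  0x1,
  0x100000a0001800002000010001900002,
  0x1,
  0x1,
  0x1,
  0x170000500005000090000700001000010001b00002,
  0x17000080000a000220001a00005000010001e00002,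
  0x1b000090000700001000010002000002,
  0x17000260001e00004,
  0x1c0002500004,
  0x1f0002800004,
  0x13000110000a000080001200004000020000a00002,
  0x1,
  0x160000f0000d000120003000005000020000b00002,
  0x1,
  0x110000f0003400003000020001100002,
  0x7000050000800001000020001900002,
  0x1,
  0x1,
  0x1,
  0x1,
  0x1,
  0x1,
  0x230000d0003a0003c0003e00040000420004400007000020001a00002,
  0x39000070000900001000020002000002,
  0x37000480003c00004,
  0xd000490003e00004,
  0x230004b0004000004,
  0x410004e0004500004,
  0x450005000004,
  0x1,
  0x340005400003000030000400002,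
  0x560000d0000f00034000360003000006000030000e00002,
  0x550005700004,
  0x540005700004,
  0x1,
  0x5a0001900023000340005e00005000030000f00002,
  0x52000230000d0000f000190002c00005000030001500002,
  0x510006100004,
  0x1,
  0x33000190006600003000030001600002,
  0x310002f0003500002000040000800002,
  0x60000320002d00001000040001900002,
  0x1,
  0x1,
  0x1,
  0x1,
  0x1,
  0x1,
  0x1,
  0x2f0006e00070000720007400076000780007a00008000040001a00002,
  0x1,
  0x69000360002e000130007e00002000040001b00002,
  0x680005e0006b000140002d0007e00004000040001e00002,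
  0x7f0008200004,
  0x1,
  0x1,
  0x7a0007c0002f000140002d000300005f000860008800007000040001f00002,
  0x6d0002e0001300001000040002000002,
  0x6b0008c0007000004,
  0x710008e00004,
  0x680006a0002d00014000310007b00005000050001300002,
  0x7b0009200004,
  0x7a0009200004,
  0x1,
  0x1,
  0x1,
  0x1,
  0x1,
  0x850005d0006a000980009a0009c0009e000a000006000050001a00002,
  0x1,
  0x850005d0006a0002d00014000690006700096000a400007000050001f00002,
  0x97000130002e00001000050002000002,
  0x84000a80009a00004,
  0x9b000aa00004,
  0x1,
  0x66000ae00003000060000200002,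
  0xb0000230001900066000680005e00006000060000c00002,
  0xaf000b100004,
  0xae000b100004,
  0x9500065000630002b00066000ac00005000060000d00002,
  0x9d000b8000a400004,
  0xac000b800004,
  0xa5000ba00004,
  0x8f000b40002c00064000b30008600005000060001400002,
  0xbe000c000004,
  0x73000bf0008800004,
  0x86000c000004,
  0xa2000c000004,
  0x89000c400004,
  0xca0009500094000010000a0001900002,
  0x1,
  0x1,
  0x1,
  0x1,
  0x1,
  0x360001400031000ce000d0000d2000d4000d6000060000a0001a00002,
  0xc1000c60005d000d7000020000b0001900002,
  0xd6000da00004,
  0xd7000da00004,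
  0xcd0009300068000010000b0002000002,
  0xde000e0000d000004,
  0xd1000e2000dc00004,
  0xd4000e400004,
  0xdc000e400004,
  0x1,
  0x75000730008f0005d00067000bb000c900076000ea00007000130001f00002,
  0x1,
  0x75000730008f000c5000c2000e700005000170001500002,
  0xef000e5000f0000eb00004,
  0xeb000f200004,
  0x7500073000c8000ee00003000170001900002,
  0xf4000f5000ed00004,
  0x76000f70009f00004,
  0xc8000f80007800004,
  0xcc000f9000de00004,
  0x90000fb000bc00004,
  0x30000fd0006a00004,
  0x59000fd0005b00004,
  0xb3000ff000b500004,
  0x105000ff00004,
  0x1800107000840010200004,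
  0x1090010100004,
  0x10010b0001600004,
  0x50010b000310010400004,
  0x10f0010300004,
  0x10d00007001110005f0010600004,
  0x80010e00004,
  0x220011400004]

set_option maxRecDepth 100000 in
theorem steps0 : cert.SStepsOK 0 140 :=
  Cert.SStepsOK.of_check _ (codes := scodes0) (by decide +kernel)

end CfsgLib.Spor.GLTwoAmalgam.SevenH
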